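import Mathlib
set_option linter.all false

/-!
# Groups acting on an elementary abelian group of order `p ^ 2` (helper791)

`exists_diag`: a finite group `A` acting on an elementary abelian group `V` of order `p ^ 2` with kernel a
`p`-group, such that all normal `p`-subgroups of `A` lie in `I`, while a Sylow `p`-subgroup `P` does not:
then `I` is the kernel, `|P : I| = p` and `A` induces on `V` all transvections and all diagonal matrices of
determinant 1 for a basis `(a, b)` with `a` fixed by `P`.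
-/

set_option autoImplicit false

namespace Cfsg.Agent.H791

open Subgroup

section Powers

variable {G : Type*} [Group G] {p : ℕ}

theorem zpow_congr {g : G} (hg : g ^ p = 1) {m n : ℤ} (h : m ≡ n [ZMOD p]) : g ^ m = g ^ n := by
  obtain ⟨k, hk⟩ := h.dvd
  have h1 : n = m + p * k := by linarith
  rw [h1, zpow_add, zpow_mul, zpow_natCast, hg, one_zpow, mul_one]

theorem modEq_of_zpow_eq [Fact p.Prime] {g : G} (hg : g ^ p = 1) (h1 : g ≠ 1) {m n : ℤ}
    (h : g ^ m = g ^ n) : m ≡ n [ZMOD p] := by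
  have h2 : orderOf g = p := orderOf_eq_prime hg h1
  rw [← h2]
  exact zpow_eq_zpow_iff_modEq.1 h

/-- an inverse modulo `p` -/
theorem exists_inv_mod [hp : Fact p.Prime] {i : ℤ} (hi : ¬ i ≡ 0 [ZMOD p]) : ∃ j : ℤ, i * j ≡ 1 [ZMOD p] := by
  have h1 : (i : ZMod p) ≠ 0 := by
    intro h
    apply hi
    have : (i : ZMod p) = ((0 : ℤ) : ZMod p) := by simpa using h
    exact (ZMod.intCast_eq_intCast_iff _ _ _).1 this
  obtain ⟨j, hj⟩ := ZMod.intCast_surjective ((i : ZMod p)⁻¹)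
  refine ⟨j, ?_⟩
  have : ((i * j : ℤ) : ZMod p) = ((1 : ℤ) : ZMod p) := by
    push_cast
    rw [hj, mul_inv_cancel₀ h1]
  exact (ZMod.intCast_eq_intCast_iff _ _ _).1 this

/-- if `b ∉ ⟨a⟩` then no power of `b` prime to `p` lies in `⟨a⟩` -/
theorem modEq_zero_of_zpow_mem [Fact p.Prime] {a b : G} (hb : b ^ p = 1) (hab : b ∉ zpowers a) {m : ℤ}
    (h : b ^ m ∈ zpowers a) : m ≡ 0 [ZMOD p] := by
  by_contra hm
  obtain ⟨j, hj⟩ := exists_inv_mod hm
  apply hab
  have h1 : (b ^ m) ^ j ∈ zpowers a := zpow_mem h j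
  rw [← zpow_mul, zpow_congr hb hj, zpow_one] at h1
  exact h1

end Powers

section Basis

variable {V : Type*} [CommGroup V] {p : ℕ} [hp : Fact p.Prime]

/-- coordinates in an elementary abelian group of order `p ^ 2` -/
theorem exists_coord [Finite V] (hV : Nat.card V = p ^ 2) (hVp : ∀ v : V, v ^ p = 1) {a b : V}
    (ha : a ≠ 1) (hb : b ∉ zpowers a) (v : V) : ∃ i j : ℤ, v = a ^ i * b ^ j := by
  have h1 : Nat.card (zpowers a) = p := by
    rw [Nat.card_zpowers]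
    exact orderOf_eq_prime (hVp a) ha
  have h2 : zpowers a < zpowers a ⊔ zpowers b := by
    refine lt_of_le_of_ne le_sup_left fun h => hb ?_
    rw [h]
    exact (le_sup_right : zpowers b ≤ _) (mem_zpowers b)
  have h3 : Nat.card (zpowers a ⊔ zpowers b : Subgroup V) ∣ p ^ 2 := hV ▸ card_subgroup_dvd_card _
  have h4 : p < Nat.card (zpowers a ⊔ zpowers b : Subgroup V) := by
    rw [← h1]
    exact Set.ncard_lt_ncard h2 (Set.toFinite _)
  obtain ⟨k, hk, hk'⟩ := (Nat.dvd_prime_pow hp.out).1 h3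
  have h5 : k = 2 := by
    rw [hk'] at h4
    have : 1 < k := by
      by_contra hlt
      have : p ^ k ≤ p ^ 1 := Nat.pow_le_pow_right hp.out.pos (by omega)
      simp at this
      omega
    omega
  have h6 : zpowers a ⊔ zpowers b = ⊤ := by
    apply eq_top_of_card_eq
    rw [hk', h5, hV]
  have h7 : v ∈ zpowers a ⊔ zpowers b := h6 ▸ mem_top v
  obtain ⟨x, ⟨i, rfl⟩, y, ⟨j, rfl⟩, h⟩ := mem_sup.1 h7
  exact ⟨i, j, h.symm⟩

/-- two automorphisms which agree on a basis are equal -/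
theorem aut_ext [Finite V] (hV : Nat.card V = p ^ 2) (hVp : ∀ v : V, v ^ p = 1) {a b : V}
    (ha : a ≠ 1) (hb : b ∉ zpowers a) {f g : MulAut V} (h1 : f a = g a) (h2 : f b = g b) : f = g := by
  apply MulEquiv.ext
  intro v
  obtain ⟨i, j, rfl⟩ := exists_coord hV hVp ha hb v
  rw [map_mul, map_mul, map_zpow, map_zpow, map_zpow, map_zpow, h1, h2]

/-- a `p`-group acting on an elementary abelian group of order `p ^ 2` -/
theorem exists_fixed [Finite V] {A : Type*} [Group A] (hV : Nat.card V = p ^ 2)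
    (ρ : A →* MulAut V) (R : Subgroup A) (hR : IsPGroup p R) :
    ∃ a : V, a ≠ 1 ∧ ∀ r ∈ R, ρ r a = a := by
  let : MulAction R V := MulAction.compHom V (ρ.comp R.subtype)
  have h1 : p ∣ Nat.card V := by
    rw [hV]
    exact dvd_pow_self p two_ne_zero
  have h2 : (1 : V) ∈ MulAction.fixedPoints R V := by
    intro r
    exact map_one (ρ r)
  obtain ⟨a, ha, hne⟩ := hR.exists_fixed_point_of_prime_dvd_card_of_fixed_point V h1 h2
  exact ⟨a, hne.symm, fun r hr => ha ⟨r, hr⟩⟩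

/-- a `p`-element fixing `a` acts trivially modulo `⟨a⟩` -/
theorem exists_shear [Finite V] {A : Type*} [Group A] (hV : Nat.card V = p ^ 2)
    (hVp : ∀ v : V, v ^ p = 1) (ρ : A →* MulAut V) {r : A} {k : ℕ} (hr : r ^ p ^ k = 1) {a : V}
    (ha : a ≠ 1) (hra : ρ r a = a) (b : V) : ∃ i : ℤ, ρ r b = a ^ i * b := by
  by_cases hb : b ∈ zpowers a
  · obtain ⟨j, rfl⟩ := hb
    exact ⟨0, by rw [map_zpow, hra]; simp⟩
  obtain ⟨i, j, hij⟩ := exists_coord hV hVp ha hb (ρ r b)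
  have key : ∀ n : ℕ, ∃ m : ℤ, ρ (r ^ n) b = a ^ m * b ^ (j ^ n) := by
    intro n
    induction n with
    | zero => exact ⟨0, by simp⟩
    | succ n ih =>
      obtain ⟨m, hm⟩ := ih
      refine ⟨m + i * j ^ n, ?_⟩
      rw [pow_succ', map_mul, MulAut.mul_apply, hm, map_mul, map_zpow, map_zpow, hra, hij, mul_zpow,
        ← zpow_mul, ← zpow_mul, zpow_add, mul_assoc, pow_succ']
  obtain ⟨m, hm⟩ := key (p ^ k)
  rw [hr, map_one, MulAut.one_apply] at hm
  have h1 : b ^ (1 - j ^ p ^ k) ∈ zpowers a := by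
    refine ⟨m, ?_⟩
    show a ^ m = _
    rw [zpow_sub, zpow_one]
    exact eq_mul_inv_of_mul_eq hm.symm
  have h2 := modEq_zero_of_zpow_mem (hVp b) hb h1
  have h3 : j ^ p ^ k ≡ j [ZMOD p] := by
    rw [← ZMod.intCast_eq_intCast_iff]
    push_cast
    rw [ZMod.pow_card_pow]
  have h4 : j ≡ 1 [ZMOD p] := by
    have h5 : j ^ p ^ k ≡ 1 [ZMOD p] := by
      have := h2.neg.add_right 1
      simpa using this
    exact h3.symm.trans h5
  refine ⟨i, ?_⟩
  rw [hij, zpow_congr (hVp b) h4, zpow_one]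

omit hp in
theorem normal_le_sylow {A : Type*} [Group A] {I : Subgroup A} (hI : IsPGroup p I)
    (hIn : I.Normal) (P : Sylow p A) : I ≤ P := by
  have h1 : IsPGroup p (P ⊔ I : Subgroup A) := P.isPGroup'.to_sup_of_normal_right hI
  have h2 := P.is_maximal' h1 le_sup_left
  rw [← h2]
  exact le_sup_right

/-- powers of a shear -/
theorem shear_pow {A : Type*} [Group A] (ρ : A →* MulAut V) (hVp : ∀ v : V, v ^ p = 1) {g : A}
    {a c : V} {i : ℤ} (ha : ρ g a = a) (hi : ρ g c = a ^ i * c) (hi0 : ¬ i ≡ 0 [ZMOD p]) (n : ℤ) :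
    ∃ k : ℕ, ρ (g ^ k) a = a ∧ ρ (g ^ k) c = a ^ n * c := by
  obtain ⟨i', hi'⟩ := exists_inv_mod hi0
  have hpow : ∀ n : ℕ, ρ (g ^ n) a = a ∧ ρ (g ^ n) c = a ^ (i * n) * c := by
    intro n
    induction n with
    | zero => simp
    | succ n ih =>
      refine ⟨by rw [pow_succ', map_mul, MulAut.mul_apply, ih.1, ha], ?_⟩
      rw [pow_succ', map_mul, MulAut.mul_apply, ih.2, map_mul, map_zpow, ha, hi, ← mul_assoc,
        ← zpow_add]
      congr 2
      push_cast
      ring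
  obtain ⟨k, hk⟩ : ∃ k : ℕ, (k : ℤ) ≡ i' * n [ZMOD p] := by
    refine ⟨((i' * n) % p).toNat, ?_⟩
    rw [Int.toNat_of_nonneg (Int.emod_nonneg _ (by exact_mod_cast hp.out.ne_zero))]
    exact Int.mod_modEq _ _
  refine ⟨k, (hpow k).1, ?_⟩
  rw [(hpow k).2]
  congr 1
  apply zpow_congr (hVp a)
  calc i * k ≡ i * (i' * n) [ZMOD p] := Int.ModEq.mul_left _ hk
    _ = (i * i') * n := by ring
    _ ≡ 1 * n [ZMOD p] := Int.ModEq.mul_right _ hi'
    _ = n := one_mul n

/-- integer powers of the unit shear -/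
theorem shear_zpow {A : Type*} [Group A] (ρ : A →* MulAut V) {u : A}
    {a c : V} (ha : ρ u a = a) (hc : ρ u c = a * c) (n : ℤ) :
    ρ (u ^ n) a = a ∧ ρ (u ^ n) c = a ^ n * c := by
  have hpow : ∀ n : ℕ, ρ (u ^ n) a = a ∧ ρ (u ^ n) c = a ^ (n : ℤ) * c := by
    intro n
    induction n with
    | zero => simp
    | succ n ih =>
      refine ⟨by rw [pow_succ', map_mul, MulAut.mul_apply, ih.1, ha], ?_⟩
      rw [pow_succ', map_mul, MulAut.mul_apply, ih.2, map_mul, map_zpow, ha, hc, ← mul_assoc]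
      push_cast
      rw [zpow_add_one]
  obtain ⟨k, rfl | rfl⟩ := n.eq_nat_or_neg
  · rw [zpow_natCast]
    exact ⟨(hpow k).1, by simpa using (hpow k).2⟩
  · obtain ⟨h1, h2⟩ := hpow k
    rw [zpow_neg, zpow_natCast, map_inv]
    have h3 : (ρ (u ^ k))⁻¹ a = a := by
      rw [MulAut.inv_apply, MulEquiv.symm_apply_eq]
      exact h1.symm
    refine ⟨h3, ?_⟩
    rw [MulAut.inv_apply, MulEquiv.symm_apply_eq, map_mul, map_zpow, h1, h2, ← mul_assoc, ← zpow_add]
    simp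

/-- the Weyl element -/
theorem weyl_apply {A : Type*} [Group A] (ρ : A →* MulAut V) (hVp : ∀ v : V, v ^ p = 1) {u v : A}
    {a b : V} (hu1 : ρ u a = a) (hu2 : ρ u b = a * b) (hv1 : ρ v b = b) (hv2 : ρ v a = b * a)
    {m n : ℤ} (hmn : m * n ≡ 1 [ZMOD p]) :
    ρ (u ^ m * v ^ (-n) * u ^ m) a = b ^ (-n) ∧ ρ (u ^ m * v ^ (-n) * u ^ m) b = a ^ m := by
  have hU := shear_zpow ρ hu1 hu2
  have hW := shear_zpow ρ hv1 hv2
  constructor
  · rw [map_mul, map_mul, MulAut.mul_apply, MulAut.mul_apply, (hU m).1, (hW (-n)).2, map_mul,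
      map_zpow (ρ (u ^ m)), (hU m).1, (hU m).2]
    rw [mul_zpow, mul_right_comm, ← zpow_mul]
    have : a ^ (m * -n) * a = 1 := by
      rw [← zpow_add_one, zpow_congr (hVp a) (n := 0), zpow_zero]
      have := hmn.neg.add_right 1
      simpa using this
    rw [this, one_mul]
  · rw [map_mul, map_mul, MulAut.mul_apply, MulAut.mul_apply, (hU m).2, map_mul,
      map_zpow (ρ (v ^ (-n))), (hW (-n)).1, (hW (-n)).2]
    rw [mul_zpow, mul_right_comm, ← zpow_mul]
    have : b ^ (-n * m) * b = 1 := by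
      rw [← zpow_add_one, zpow_congr (hVp b) (n := 0), zpow_zero]
      have := hmn.neg.add_right 1
      rw [mul_comm m n] at this
      simpa using this
    rw [this, one_mul, map_zpow (ρ (u ^ m)), (hU _).1]

/-- **Two Sylow subgroups on a plane generate `SL(2, p)`.** -/
theorem exists_diag [Finite V] {A : Type*} [Group A] [Finite A] (hV : Nat.card V = p ^ 2)
    (hVp : ∀ v : V, v ^ p = 1) (ρ : A →* MulAut V) (hker : IsPGroup p ρ.ker) (I : Subgroup A)
    (hI : IsPGroup p I) (hIn : I.Normal)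
    (hmax : ∀ N : Subgroup A, N.Normal → IsPGroup p N → N ≤ I) (P : Sylow p A)
    (hP : ¬ (P : Subgroup A) ≤ I) :
    ρ.ker = I ∧ ∃ u ∈ P, ∃ (v : A) (a b : V), a ≠ 1 ∧ b ∉ zpowers a ∧ ρ u a = a ∧ ρ u b = a * b ∧
      ρ v a = a * b ∧ ρ v b = b ∧ (∃ k, v ^ p ^ k = 1) ∧
      (∀ g ∈ P, ρ g a = a ∧ ∃ i : ℤ, ρ g b = a ^ i * b) ∧
      ∀ m n : ℤ, m * n ≡ 1 [ZMOD p] → ∃ h : A, ρ h a = a ^ m ∧ ρ h b = b ^ n ∧
        ∀ g ∈ P, h * g * h⁻¹ ∈ P := by
  have hkerI : ρ.ker ≤ I := hmax _ inferInstance hker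
  have hIP : ∀ P : Sylow p A, I ≤ P := normal_le_sylow hI hIn
  obtain ⟨a, ha, hPa⟩ := exists_fixed hV ρ P P.isPGroup'
  obtain ⟨g, hgP, hgI⟩ := SetLike.not_le_iff_exists.1 hP
  have hppow : ∀ (P : Sylow p A) (g : A), g ∈ P → ∃ k, g ^ p ^ k = 1 := by
    intro P g hg
    obtain ⟨k, hk⟩ := P.isPGroup' ⟨g, hg⟩
    exact ⟨k, by simpa using congrArg Subtype.val hk⟩
  have hPshear : ∀ g ∈ P, ∀ b, ∃ i : ℤ, ρ g b = a ^ i * b := by
    intro g hg b
    obtain ⟨k, hk⟩ := hppow P g hg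
    exact exists_shear hV hVp ρ hk ha (hPa g hg) b
  -- P is not normal: another Sylow subgroup
  have hnn : ¬ (P : Subgroup A).Normal := fun h => hP (hmax _ h P.isPGroup')
  obtain ⟨x, hx⟩ : ∃ x : A, x • P ≠ P := by
    by_contra hcon
    push Not at hcon
    apply hnn
    refine ⟨fun n hn y => ?_⟩
    have h1 := hcon y
    have h2 : y * n * y⁻¹ ∈ (y • P : Sylow p A) := by
      rw [← SetLike.mem_coe, Sylow.coe_smul]
      exact ⟨n, hn, rfl⟩
    rwa [h1] at h2
  set P2 : Sylow p A := x • P with hP2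
  have hmem2 : ∀ g2 ∈ P2, ∃ g ∈ P, g2 = x * g * x⁻¹ := by
    intro g2 hg2
    rw [hP2, ← SetLike.mem_coe, Sylow.coe_smul] at hg2
    obtain ⟨g, hg, rfl⟩ := hg2
    exact ⟨g, hg, rfl⟩
  have hmem2' : ∀ g ∈ P, x * g * x⁻¹ ∈ P2 := by
    intro g hg
    rw [hP2, ← SetLike.mem_coe, Sylow.coe_smul]
    exact ⟨g, hg, rfl⟩
  set b : V := ρ x a with hb
  have hb1 : b ≠ 1 := by
    rw [hb]
    intro h
    exact ha ((map_eq_one_iff _ (ρ x).injective).1 h)
  have hP2b : ∀ g2 ∈ P2, ρ g2 b = b := by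
    intro g2 hg2
    obtain ⟨g, hg, rfl⟩ := hmem2 g2 hg2
    rw [hb, ← MulAut.mul_apply, ← map_mul]
    have : x * g * x⁻¹ * x = x * g := by group
    rw [this, map_mul, MulAut.mul_apply, hPa g hg]
  have hP2shear : ∀ g ∈ P2, ∀ c, ∃ i : ℤ, ρ g c = b ^ i * c := by
    intro g hg c
    obtain ⟨k, hk⟩ := hppow P2 g hg
    exact exists_shear hV hVp ρ hk hb1 (hP2b g hg) c
  -- nontrivial action of `g`
  have hgk : ρ g ≠ 1 := fun h => hgI (hkerI h)
  -- a general principle: two elements with the same action differ by the kernel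
  have hbase : b ∉ zpowers a := by
    intro hba
    -- choose a second basis vector
    obtain ⟨c, hc⟩ : ∃ c, c ∉ zpowers a := by
      by_contra hcon
      push Not at hcon
      have h1 : Nat.card (zpowers a) = p := by
        rw [Nat.card_zpowers]
        exact orderOf_eq_prime (hVp a) ha
      have h2 : zpowers a = ⊤ := (eq_top_iff' _).2 hcon
      rw [h2, card_top, hV] at h1
      have := hp.out.one_lt
      nlinarith
    obtain ⟨i, hi⟩ := hPshear g hgP c
    have hi0 : ¬ i ≡ 0 [ZMOD p] := by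
      intro h
      apply hgk
      refine aut_ext hV hVp ha hc ?_ ?_
      · rw [hPa g hgP, MulAut.one_apply]
      · rw [hi, zpow_congr (hVp a) h, zpow_zero, one_mul, MulAut.one_apply]
    have hzpow : ∀ n : ℤ, ∃ g' ∈ P, ρ g' a = a ∧ ρ g' c = a ^ n * c := by
      intro n
      obtain ⟨k, hk1, hk2⟩ := shear_pow ρ hVp (hPa g hgP) hi hi0 n
      exact ⟨g ^ k, pow_mem hgP k, hk1, hk2⟩
    apply hx
    apply Sylow.ext
    apply eq_of_le_of_card_ge
    · intro g2 hg2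
      obtain ⟨j, hj⟩ := hP2shear g2 hg2 c
      obtain ⟨l, hl⟩ := hba
      have hl' : a ^ l = b := hl
      have hfix : ρ g2 a = a := by
        -- `a` is a power of `b`
        have h1 : ¬ l ≡ 0 [ZMOD p] := by
          intro h
          apply hb1
          rw [← hl', zpow_congr (hVp a) h, zpow_zero]
        obtain ⟨l', hl2⟩ := exists_inv_mod h1
        have h2 : a = b ^ l' := by
          rw [← hl', ← zpow_mul, zpow_congr (hVp a) hl2, zpow_one]
        rw [h2, map_zpow, hP2b g2 hg2]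
      obtain ⟨g', hg', h1, h2⟩ := hzpow (l * j)
      have h3 : ρ g2 = ρ g' := by
        refine aut_ext hV hVp ha hc ?_ ?_
        · rw [hfix, h1]
        · rw [hj, h2, ← hl', ← zpow_mul]
      have h4 : g2 * g'⁻¹ ∈ ρ.ker := by
        rw [MonoidHom.mem_ker, map_mul, map_inv, h3, mul_inv_cancel]
      have h5 : g2 * g'⁻¹ ∈ P := hIP P (hkerI h4)
      have h6 := mul_mem h5 hg'
      rwa [inv_mul_cancel_right] at h6
    · exact (Nat.card_congr (Sylow.equiv P P2).toEquiv).le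
  -- the unit shears
  obtain ⟨i, hi⟩ := hPshear g hgP b
  have hi0 : ¬ i ≡ 0 [ZMOD p] := by
    intro h
    apply hgk
    refine aut_ext hV hVp ha hbase ?_ ?_
    · rw [hPa g hgP, MulAut.one_apply]
    · rw [hi, zpow_congr (hVp a) h, zpow_zero, one_mul, MulAut.one_apply]
  obtain ⟨ku, hu1, hu2⟩ := shear_pow ρ hVp (hPa g hgP) hi hi0 1
  rw [zpow_one] at hu2
  have habase : a ∉ zpowers b := by
    rintro ⟨l, hl⟩
    have hl' : b ^ l = a := hl
    have h1 : ¬ l ≡ 0 [ZMOD p] := by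
      intro h
      apply ha
      rw [← hl', zpow_congr (hVp b) h, zpow_zero]
    obtain ⟨l', hl2⟩ := exists_inv_mod h1
    apply hbase
    refine ⟨l', ?_⟩
    show a ^ l' = b
    rw [← hl', ← zpow_mul, zpow_congr (hVp b) hl2, zpow_one]
  -- the second Sylow subgroup
  obtain ⟨g2, hg2P, hg2⟩ : ∃ g2 ∈ P2, ρ g2 ≠ 1 := by
    refine ⟨x * g * x⁻¹, hmem2' g hgP, ?_⟩
    rw [map_mul, map_mul, map_inv]
    intro h
    apply hgk
    have := congrArg (fun t => (ρ x)⁻¹ * t * ρ x) h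
    simpa [mul_assoc] using this
  obtain ⟨i2, hi2⟩ := hP2shear g2 hg2P a
  have hi20 : ¬ i2 ≡ 0 [ZMOD p] := by
    intro h
    apply hg2
    refine aut_ext hV hVp hb1 habase ?_ ?_
    · rw [hP2b g2 hg2P, MulAut.one_apply]
    · rw [hi2, zpow_congr (hVp b) h, zpow_zero, one_mul, MulAut.one_apply]
  obtain ⟨kv, hv1, hv2⟩ := shear_pow ρ hVp (hP2b g2 hg2P) hi2 hi20 1
  rw [zpow_one] at hv2
  set u := g ^ ku with hu
  set v := g2 ^ kv with hv
  have huP : u ∈ P := pow_mem hgP ku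
  have hvP : v ∈ P2 := pow_mem hg2P kv
  -- the kernel is `I`
  have hkerI' : ρ.ker = I := by
    refine le_antisymm hkerI fun y hy => ?_
    rw [MonoidHom.mem_ker]
    refine aut_ext hV hVp ha hbase ?_ ?_
    · rw [hPa y (hIP P hy), MulAut.one_apply]
    · rw [hP2b y (hIP P2 hy), MulAut.one_apply]
  refine ⟨hkerI', u, huP, v, a, b, ha, hbase, hu1, hu2, ?_, hv1, hppow P2 v hvP,
    fun g hg => ⟨hPa g hg, hPshear g hg b⟩, ?_⟩
  · rw [hv2, mul_comm]
  intro m n hmn
  have hw := weyl_apply ρ hVp hu1 hu2 hv1 hv2 hmn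
  have hw1 := weyl_apply ρ hVp hu1 hu2 hv1 hv2 (m := -1) (n := -1) (by norm_num)
  rw [neg_neg, zpow_one b] at hw1
  set h := u ^ m * v ^ (-n) * u ^ m * (u ^ (-1 : ℤ) * v ^ (1 : ℤ) * u ^ (-1 : ℤ)) with hh
  have hh1 : ρ h a = a ^ m := by
    rw [hh, map_mul, MulAut.mul_apply, hw1.1, hw.2]
  have hh2 : ρ h b = b ^ n := by
    rw [hh, map_mul, MulAut.mul_apply, hw1.2, map_zpow, hw.1, ← zpow_mul]
    congr 1
    ring
  refine ⟨h, hh1, hh2, fun g hg => ?_⟩
  have hU := shear_zpow ρ hu1 hu2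
  obtain ⟨i, hi⟩ := hPshear g hg b
  have hmn' : n * m ≡ 1 [ZMOD p] := by rwa [mul_comm]
  have h3 : ρ h⁻¹ a = a ^ n := by
    rw [map_inv, MulAut.inv_apply, MulEquiv.symm_apply_eq, map_zpow, hh1, ← zpow_mul,
      zpow_congr (hVp a) hmn, zpow_one]
  have h4 : ρ h⁻¹ b = b ^ m := by
    rw [map_inv, MulAut.inv_apply, MulEquiv.symm_apply_eq, map_zpow, hh2, ← zpow_mul,
      zpow_congr (hVp b) hmn', zpow_one]
  have h5 : ρ (h * g * h⁻¹) = ρ (u ^ (m * i * m)) := by
    refine aut_ext hV hVp ha hbase ?_ ?_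
    · rw [map_mul, map_mul, MulAut.mul_apply, MulAut.mul_apply, h3, map_zpow (ρ g), hPa g hg,
        map_zpow (ρ h), hh1, ← zpow_mul, zpow_congr (hVp a) hmn, zpow_one]
      exact (hU _).1.symm
    · rw [map_mul, map_mul, MulAut.mul_apply, MulAut.mul_apply, h4, map_zpow (ρ g), hi,
        map_zpow (ρ h), map_mul, map_zpow (ρ h), hh1, hh2, mul_zpow, ← zpow_mul, ← zpow_mul,
        ← zpow_mul, zpow_congr (hVp b) hmn', zpow_one, ← mul_assoc m i m]
      exact (hU _).2.symm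
  have h6 : h * g * h⁻¹ * (u ^ (m * i * m))⁻¹ ∈ ρ.ker := by
    rw [MonoidHom.mem_ker, map_mul, map_inv, h5, mul_inv_cancel]
  have h7 := mul_mem (hIP P (hkerI h6)) (zpow_mem huP (m * i * m))
  rwa [inv_mul_cancel_right] at h7

end Basis

end Cfsg.Agent.H791
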